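import Cfsg.Agent.Lib.Crit8.Basic
import Cfsg.Agent.Lib.Crit59.Setting

/-!
# The single fixed point criterion: the action on the cosets of `H`
-/

set_option autoImplicit false
set_option linter.style.haveILetI false

namespace Cfsg.Agent.Lib.Crit8

open MulAction Subgroup

variable {G : Type*} [Group G] {H : Subgroup G} {D : Set G}

theorem smul_mk_eq_iff {x g : G} :
    x • (g : G ⧸ H) = (g : G ⧸ H) ↔ g⁻¹ * x * g ∈ H := by
  rw [eq_comm]
  show (g : G ⧸ H) = ((x * g : G) : G ⧸ H) ↔ _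
  rw [QuotientGroup.eq, mul_assoc]

/-- Every member fixes one coset only. -/
theorem one_of_setting (hS : Crit59.Setting H D) {d : G} (hd : d ∈ D) :
    ∃! x : G ⧸ H, d • x = x := by
  obtain ⟨g, hg⟩ := hS.meets d hd
  refine ⟨((g⁻¹ : G) : G ⧸ H), smul_mk_eq_iff.2 (by simpa using hg), fun y hy => ?_⟩
  induction y using QuotientGroup.induction_on with
  | H k =>
    rw [eq_comm, QuotientGroup.eq]
    have h1 := hS.fix _ (by simpa using hS.conj d hd k⁻¹ : k⁻¹ * d * k ∈ D) (smul_mk_eq_iff.1 hy)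
      (g * k) (by simpa [mul_assoc] using hg)
    simpa using h1

/-- The setting on the cosets of `H`, once members at different points have odd product. -/
theorem pre_of_odd_mul [Finite G] (hS : Crit59.Setting H D) (hne : D.Nonempty)
    (hmul : ∀ d ∈ D, ∀ e ∈ D, ∀ a : G ⧸ H, d • a = a → e • a ≠ a → Odd (orderOf (d * e))) :
    Pre G (G ⧸ H) D := by
  have hconj : ∀ g : G, ∀ d ∈ D, g⁻¹ * d * g ∈ D := fun g d hd => by
    simpa using hS.conj d hd g⁻¹
  refine ⟨hS.invol, fun g d hd => hS.conj d hd g, fun d hd => one_of_setting hS hd, inferInstance,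
    hne, ?_, ?_, hmul⟩
  · obtain ⟨g, -, hg⟩ := SetLike.exists_of_lt (lt_top_iff_ne_top.2 hS.ne_top)
    exact ⟨⟨(g : G ⧸ H), ((1 : G) : G ⧸ H), fun h => hg (by simpa using (QuotientGroup.eq.1 h.symm))⟩⟩
  · intro a
    induction a using QuotientGroup.induction_on with
    | H g =>
      refine (Nat.card_congr ?_).symm ▸ hS.odd
      refine Equiv.subtypeEquiv (MulAut.conj g⁻¹).toEquiv fun x => ?_
      show x ∈ D ∧ x • (g : G ⧸ H) = g ↔ g⁻¹ * x * g⁻¹⁻¹ ∈ D ∧ g⁻¹ * x * g⁻¹⁻¹ ∈ H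
      rw [inv_inv, smul_mk_eq_iff]
      exact and_congr_left' ⟨hconj g x, fun h => by simpa [mul_assoc] using hS.conj _ h g⟩

/-- The local hypothesis on the cosets of `H`. -/
theorem emb_of_localHyp [Finite G] (hS : Crit59.Setting H D) (hL : Crit59.LocalHyp H D) :
    Emb G (G ⧸ H) D := by
  have hconj : ∀ g : G, ∀ d ∈ D, g⁻¹ * d * g ∈ D := fun g d hd => by
    simpa using hS.conj d hd g⁻¹
  intro u hu d hd hdu a ha hnot
  induction a using QuotientGroup.induction_on with
  | H g =>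
    obtain ⟨x, hxC, hx⟩ := SetLike.not_le_iff_exists.1 hnot
    have hdg := hconj g d hd
    have hdH := smul_mk_eq_iff.1 ha
    have huH : g⁻¹ * u * g ∈ H := by
      refine hS.fix _ hdg hdH _ ?_
      have e : g⁻¹ * u * g * (g⁻¹ * d * g) * (g⁻¹ * u * g)⁻¹ = g⁻¹ * d * g := by
        calc g⁻¹ * u * g * (g⁻¹ * d * g) * (g⁻¹ * u * g)⁻¹
            = g⁻¹ * (u * d) * u⁻¹ * g := by group
          _ = g⁻¹ * (d * u) * u⁻¹ * g := by rw [hdu.eq]
          _ = _ := by group
      rw [e]; exact hdH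
    have hxu := mem_centralizer_singleton_iff.1 hxC
    have key := hL (g⁻¹ * u * g)
      (((MulAut.conj g⁻¹).orderOf_eq u ▸ hu : orderOf (MulAut.conj g⁻¹ u) = 2) |> fun h => by
        simpa [MulAut.conj_apply] using h) huH
      ⟨g⁻¹ * x * g, by
        have e : g⁻¹ * x * g * (g⁻¹ * u * g) * (g⁻¹ * x * g)⁻¹ = g⁻¹ * u * g := by
          calc g⁻¹ * x * g * (g⁻¹ * u * g) * (g⁻¹ * x * g)⁻¹
              = g⁻¹ * (x * u) * x⁻¹ * g := by group
            _ = g⁻¹ * (u * x) * x⁻¹ * g := by rw [hxu]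
            _ = _ := by group
        rw [e]; exact huH, fun h => hx (smul_mk_eq_iff.2 h)⟩
    have e : Subgroup.closure {y : G | y ∈ D ∧ y * (g⁻¹ * u * g) = g⁻¹ * u * g * y} =
        (loc D u).map (MulAut.conj g⁻¹).toMonoidHom := by
      rw [loc, MonoidHom.map_closure]
      congr 1
      ext y
      simp only [MulEquiv.coe_toMonoidHom, Set.mem_setOf_eq, Set.mem_image, MulAut.conj_apply,
        inv_inv]
      constructor
      · rintro ⟨hy, hc⟩
        refine ⟨g * y * g⁻¹, ⟨hS.conj y hy g, ?_⟩, by group⟩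
        show g * y * g⁻¹ * u = u * (g * y * g⁻¹)
        calc g * y * g⁻¹ * u = g * (y * (g⁻¹ * u * g)) * g⁻¹ := by group
          _ = g * (g⁻¹ * u * g * y) * g⁻¹ := by rw [hc]
          _ = _ := by group
      · rintro ⟨z, ⟨hz, hc⟩, rfl⟩
        refine ⟨hconj g z hz, ?_⟩
        calc g⁻¹ * z * g * (g⁻¹ * u * g) = g⁻¹ * (z * u) * g := by group
          _ = g⁻¹ * (u * z) * g := by rw [hc.eq]
          _ = _ := by group
    rw [e] at key
    refine Crit59.Transport.of_equiv ((MulAut.conj g⁻¹).subgroupMap (loc D u)) (fun y => ?_) key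
    simp only [Subgroup.mem_subgroupOf, mem_stabilizer_iff, smul_mk_eq_iff]
    show g⁻¹ * (y : G) * g ∈ H ↔ g⁻¹ * (y : G) * g⁻¹⁻¹ ∈ H
    rw [inv_inv]

/-- The setting on the cosets of `H` under the local hypothesis. -/
theorem action_of_setting [Finite G] (hS : Crit59.Setting H D) (hL : Crit59.LocalHyp H D)
    (hne : D.Nonempty) : Action G (G ⧸ H) D where
  toPre := pre_of_odd_mul hS hne fun _ hd _ he _ ha hea =>
    odd_mul_of_emb hS.invol (fun _ hx => one_of_setting hS hx) (emb_of_localHyp hS hL) hd he ha hea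
  emb := emb_of_localHyp hS hL

end Cfsg.Agent.Lib.Crit8
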