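import Mathlib
import Cfsg.Prelude.Def_Involutions
import Cfsg.Agent.Lib.Involutions.Basic
import Cfsg.Agent.Lib.BenderOne20.Setting

/-!
# The single fixed point criterion: elementary facts

`Pre G Ω D`: every member of the normal set `D` of involutions fixes exactly one point, an odd
number of them fix a given point, members at different points have product of odd order.
`Action G Ω D` adds the local hypothesis `emb`: the group generated by the members centralising an
involution has a strongly embedded point stabiliser whenever the centraliser moves the point.  An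
involution fixing two points is bad.  See `notes/crit_helper98.md`, items 1, 2 and 7.
-/

set_option autoImplicit false
set_option linter.style.haveILetI false

namespace Cfsg.Agent.Lib.Crit8

open MulAction Subgroup Cfsg.Agent.Lib.Involutions.Basic

/-- The subgroup generated by the members of `D` centralising `u`. -/
def loc {G : Type*} [Group G] (D : Set G) (u : G) : Subgroup G :=
  closure {x | x ∈ D ∧ Commute x u}

/-- The single fixed point criterion setting without the local hypothesis. -/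
structure Pre (G Ω : Type*) [Group G] [MulAction G Ω] (D : Set G) : Prop where
  invol : ∀ d ∈ D, orderOf d = 2
  conj : ∀ (g : G), ∀ d ∈ D, g * d * g⁻¹ ∈ D
  one : ∀ d ∈ D, ∃! x : Ω, d • x = x
  trans : IsPretransitive G Ω
  nonempty : D.Nonempty
  nontrivial : Nontrivial Ω
  odd : ∀ a : Ω, Odd (Nat.card {x : G | x ∈ D ∧ x • a = a})
  oddMul : ∀ d ∈ D, ∀ e ∈ D, ∀ a : Ω, d • a = a → e • a ≠ a → Odd (orderOf (d * e))

/-- The local hypothesis: the group generated by the members centralising an involution has a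
strongly embedded point stabiliser whenever the centraliser moves the point. -/
def Emb (G Ω : Type*) [Group G] [MulAction G Ω] (D : Set G) : Prop :=
  ∀ u : G, orderOf u = 2 → ∀ d ∈ D, Commute d u → ∀ a : Ω, d • a = a →
    ¬ centralizer ({u} : Set G) ≤ stabilizer G a →
    Cfsg.IsStronglyEmbedded ((stabilizer G a).subgroupOf (loc D u))


/-- The single fixed point criterion setting. -/
structure Action (G Ω : Type*) [Group G] [MulAction G Ω] (D : Set G) : Prop extends Pre G Ω D where
  emb : Emb G Ω D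

/-- An involution generating with strongly embedded point stabiliser a local group is outside it. -/
theorem not_mem_loc_of_emb {G Ω : Type*} [Group G] [MulAction G Ω] [Finite G] {D : Set G} {u : G}
    {a : Ω} (hu : orderOf u = 2) (ha : u • a = a)
    (hSE : Cfsg.IsStronglyEmbedded ((stabilizer G a).subgroupOf (loc D u))) : u ∉ loc D u := by
  intro hmem
  obtain ⟨hne, -, hodd⟩ := hSE
  obtain ⟨g, -, hg⟩ := SetLike.exists_of_lt (lt_top_iff_ne_top.2 hne)
  have hcen : ∀ x ∈ loc D u, Commute x u := by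
    intro x hx
    induction hx using Subgroup.closure_induction with
    | mem x hx => exact hx.2
    | one => exact Commute.one_left u
    | mul x y _ _ hx hy => exact hx.mul_left hy
    | inv x _ hx => exact hx.inv_left
  have huH : (⟨u, hmem⟩ : loc D u) ∈ (stabilizer G a).subgroupOf (loc D u) := ha
  have hconj : (⟨u, hmem⟩ : loc D u) ∈
      ((stabilizer G a).subgroupOf (loc D u)).map (MulAut.conj g).toMonoidHom := by
    refine ⟨⟨u, hmem⟩, huH, Subtype.ext ?_⟩
    show (g : G) * u * (g : G)⁻¹ = u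
    rw [(hcen g g.2).eq, mul_inv_cancel_right]
  refine (odd_card_iff_no_invol _).1 (hodd g hg) _ ⟨huH, hconj⟩ ?_
  rw [← Subgroup.orderOf_coe]
  exact hu

/-- Members with different fixed points have product of odd order, from the local hypothesis. -/
theorem odd_mul_of_emb {G Ω : Type*} [Group G] [MulAction G Ω] [Finite G] {D : Set G}
    (hinv : ∀ d ∈ D, orderOf d = 2) (hone : ∀ d ∈ D, ∃! x : Ω, d • x = x) (hE : Emb G Ω D)
    {d e : G} {a : Ω} (hd : d ∈ D) (he : e ∈ D) (ha : d • a = a) (hea : e • a ≠ a) :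
    Odd (orderOf (d * e)) := by
  by_contra hev
  rw [Nat.not_odd_iff_even] at hev
  obtain ⟨hw, hwd, hwe⟩ := central_invol (hinv d hd) (hinv e he) hev
  have hwa : ((d * e) ^ (orderOf (d * e) / 2)) • a = a := by
    obtain ⟨z, -, hz⟩ := hone d hd
    rw [hz a ha]
    refine hz _ ?_
    show d • _ = _
    rw [smul_smul, ← hwd.eq, ← smul_smul, ← hz a ha, ha]
  have hN : ¬ centralizer ({(d * e) ^ (orderOf (d * e) / 2)} : Set G) ≤ stabilizer G a :=
    fun hle => hea (hle (mem_centralizer_singleton_iff.2 hwe.symm.eq))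
  refine not_mem_loc_of_emb hw hwa (hE _ hw d hd hwd.symm a ha hN) (pow_mem (mul_mem ?_ ?_) _)
  · exact subset_closure ⟨hd, hwd.symm⟩
  · exact subset_closure ⟨he, hwe.symm⟩

namespace Pre

variable {G Ω : Type*} [Group G] [MulAction G Ω] {D : Set G} (h : Pre G Ω D)
include h

theorem eq_of_fix {d : G} (hd : d ∈ D) {x y : Ω} (hx : d • x = x) (hy : d • y = y) : x = y := by
  obtain ⟨z, -, hz⟩ := h.one d hd
  rw [hz x hx, hz y hy]

theorem smul_eq_of_commute {d g : G} {a : Ω} (hd : d ∈ D) (ha : d • a = a) (hc : Commute d g) :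
    g • a = a := by
  refine h.eq_of_fix hd ?_ ha
  rw [smul_smul, hc.eq, ← smul_smul, ha]

theorem fix_eq_of_commute {d e : G} {a b : Ω} (hd : d ∈ D) (ha : d • a = a) (he : e ∈ D)
    (hb : e • b = b) (hc : Commute d e) : a = b :=
  h.eq_of_fix he (h.smul_eq_of_commute hd ha hc) hb

/-- Members with different fixed points have product of odd order. -/
theorem odd_mul {d e : G} {a b : Ω} (hd : d ∈ D) (ha : d • a = a) (he : e ∈ D)
    (hb : e • b = b) (hab : a ≠ b) : Odd (orderOf (d * e)) :=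
  h.oddMul d hd e he a ha fun h' => hab (h.eq_of_fix he h' hb)

/-- The members fixing the point `a`. -/
def _root_.Cfsg.Agent.Lib.Crit8.memAt (G : Type*) [Group G] {Ω : Type*} [MulAction G Ω]
    (D : Set G) (a : Ω) : Set G := {d | d ∈ D ∧ d • a = a}

theorem conj_mem_memAt {d g : G} {a : Ω} (hd : d ∈ memAt G D a) :
    g * d * g⁻¹ ∈ memAt G D (g • a) :=
  ⟨h.conj g d hd.1, by rw [mul_smul, mul_smul, inv_smul_smul, hd.2]⟩

theorem exists_memAt (a : Ω) : ∃ d, d ∈ memAt G D a := by
  obtain ⟨d, hd⟩ := h.nonempty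
  obtain ⟨b, hb⟩ := (h.one d hd).exists
  haveI := h.trans
  obtain ⟨g, rfl⟩ := exists_smul_eq G b a
  exact ⟨_, h.conj_mem_memAt (g := g) ⟨hd, hb⟩⟩

/-- Members at different points are interchanged by a member. -/
theorem exists_swap [Finite G] {d e : G} {a b : Ω} (hd : d ∈ memAt G D a) (he : e ∈ memAt G D b)
    (hab : a ≠ b) : ∃ f ∈ D, f • a = b ∧ f * d * f⁻¹ = e := by
  have hodd := h.odd_mul hd.1 hd.2 he.1 he.2 hab
  have hdd := invol_mul_self (h.invol d hd.1)
  have hee := invol_mul_self (h.invol e he.1)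
  obtain ⟨n, hn⟩ := hodd
  have hpow : (d * e) ^ ((2 * n + 1 : ℤ)) = 1 := by
    rw [show (2 * n + 1 : ℤ) = ((2 * n + 1 : ℕ) : ℤ) by push_cast; ring, zpow_natCast, ← hn,
      pow_orderOf_eq_one]
  have hflip : ∀ k : ℤ, (d * e) ^ k * d = d * (d * e) ^ (-k) :=
    fun k => invert_comm hdd (invert_mul hdd hee) k
  have hconj : ∀ k : ℤ, (d * e) ^ k * d * ((d * e) ^ k)⁻¹ = (d * e) ^ (2 * k) * d := by
    intro k
    rw [mul_assoc, ← zpow_neg, ← hflip k, ← mul_assoc, ← zpow_add, two_mul]
  have hfD : (d * e) ^ (n : ℤ) * d ∈ D := by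
    have hk := h.conj ((d * e) ^ ((n : ℤ) * (n + 1))) d hd.1
    rwa [hconj, show 2 * ((n : ℤ) * (n + 1)) = (2 * n + 1 : ℤ) * n + n by ring, zpow_add,
      zpow_mul, hpow, one_zpow, one_mul] at hk
  have hf : (d * e) ^ (n : ℤ) * d * d * ((d * e) ^ (n : ℤ) * d)⁻¹ = e := by
    rw [mul_assoc ((d * e) ^ (n : ℤ)) d d, hdd, mul_one, mul_inv_rev,
      invol_inv (h.invol d hd.1), ← mul_assoc, hconj,
      show 2 * (n : ℤ) = (2 * n + 1 : ℤ) + -1 by ring, zpow_add, hpow, one_mul, zpow_neg_one,
      mul_inv_rev, invol_inv (h.invol d hd.1), invol_inv (h.invol e he.1), mul_assoc, hdd, mul_one]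
  exact ⟨_, hfD, h.eq_of_fix he.1 (hf ▸ (h.conj_mem_memAt hd)).2 he.2, hf⟩

/-- The members carrying `a` to `b`. -/
def _root_.Cfsg.Agent.Lib.Crit8.memSwap (G : Type*) [Group G] {Ω : Type*} [MulAction G Ω]
    (D : Set G) (a b : Ω) : Set G := {d | d ∈ D ∧ d • a = b}

theorem memSwap_smul {a b : Ω} {w : G} (hw : w ∈ memSwap G D a b) : w • b = a := by
  rw [← hw.2, smul_smul, invol_mul_self (h.invol w hw.1), one_smul]

theorem swap_unique [Finite G] {d w w' : G} {a b : Ω} (hab : a ≠ b) (hd : d ∈ memAt G D a)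
    (hw : w ∈ memSwap G D a b) (hw' : w' ∈ memSwap G D a b)
    (heq : w * d * w⁻¹ = w' * d * w'⁻¹) : w = w' := by
  have key : ∀ v ∈ memSwap G D a b, Odd (orderOf (v * d)) := by
    intro v hv
    obtain ⟨c, hc⟩ := (h.one v hv.1).exists
    refine h.odd_mul hv.1 hc hd.1 hd.2 fun hca => hab ?_
    rw [hca] at hc
    exact hc.symm.trans hv.2
  have h2 : (w * d) ^ 2 = (w' * d) ^ 2 := by
    rw [invol_inv (h.invol w hw.1), invol_inv (h.invol w' hw'.1)] at heq
    rw [pow_two, pow_two, ← mul_assoc, ← mul_assoc, heq]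
  exact mul_right_cancel (Cfsg.Agent.Lib.BenderOne20.eq_of_sq_eq (key w hw) (key w' hw') h2)

theorem card_memAt (a b : Ω) : Nat.card (memAt G D a) = Nat.card (memAt G D b) := by
  haveI := h.trans
  obtain ⟨g, rfl⟩ := exists_smul_eq G a b
  refine Nat.card_eq_of_bijective
    (fun t : memAt G D a => (⟨g * t.1 * g⁻¹, h.conj_mem_memAt t.2⟩ : memAt G D (g • a)))
    ⟨fun x y hxy => Subtype.ext (by simpa using congrArg Subtype.val hxy), fun t => ?_⟩
  refine ⟨⟨g⁻¹ * t.1 * g, ?_⟩, Subtype.ext (by simp [mul_assoc])⟩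
  have h1 := h.conj_mem_memAt (g := g⁻¹) t.2
  rwa [inv_inv, inv_smul_smul] at h1

/-- Each pair of points has as many swapping members as a point has members. -/
theorem card_memSwap [Finite G] {a b : Ω} (hab : a ≠ b) :
    Nat.card (memSwap G D a b) = Nat.card (memAt G D b) := by
  obtain ⟨d, hd⟩ := h.exists_memAt a
  refine Nat.card_eq_of_bijective
    (fun w : memSwap G D a b => (⟨w.1 * d * w.1⁻¹, by
      have h1 := h.conj_mem_memAt (g := w.1) hd
      rwa [w.2.2] at h1⟩ : memAt G D b))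
    ⟨fun w w' he => ?_, fun t => ?_⟩
  · exact Subtype.ext (h.swap_unique hab hd w.2 w'.2 (congrArg Subtype.val he))
  · obtain ⟨w, hw, hwa, hwt⟩ := h.exists_swap hd t.2 hab
    exact ⟨⟨w, hw, hwa⟩, Subtype.ext hwt⟩

/-- All members are conjugate. -/
theorem isConj_mem [Finite G] {d e : G} (hd : d ∈ D) (he : e ∈ D) : IsConj d e := by
  obtain ⟨a, ha⟩ := (h.one d hd).exists
  obtain ⟨b, hb⟩ := (h.one e he).exists
  haveI := h.nontrivial
  by_cases hab : a = b
  · obtain ⟨c, hc⟩ := exists_ne a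
    obtain ⟨f, hf⟩ := h.exists_memAt c
    obtain ⟨w, -, -, hw⟩ := h.exists_swap ⟨hd, ha⟩ hf (Ne.symm hc)
    obtain ⟨v, -, -, hv⟩ := h.exists_swap hf ⟨he, hb⟩ (hab ▸ hc)
    exact (isConj_iff.2 ⟨w, hw⟩).trans (isConj_iff.2 ⟨v, hv⟩)
  · obtain ⟨w, -, -, hw⟩ := h.exists_swap ⟨hd, ha⟩ ⟨he, hb⟩ hab
    exact isConj_iff.2 ⟨w, hw⟩

/-- An involution fixing at least two points. -/
structure _root_.Cfsg.Agent.Lib.Crit8.Bad (G : Type*) [Group G] (Ω : Type*) [MulAction G Ω]
    (u : G) : Prop where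
  invol : orderOf u = 2
  two : ∃ a b : Ω, a ≠ b ∧ u • a = a ∧ u • b = b

theorem not_bad_of_mem {d : G} (hd : d ∈ D) : ¬ Bad G Ω d := fun ⟨_, _, _, hne, ha, hb⟩ =>
  hne (h.eq_of_fix hd ha hb)

omit h [MulAction G Ω] in
/-- An element of square one stabilising a finite set of odd size centralises one of its members. -/
theorem exists_commute_of_odd [Finite G] {u : G} (hu : u * u = 1) {S : Set G}
    (hS : ∀ x ∈ S, u * x * u⁻¹ ∈ S) (hodd : Odd (Nat.card S)) : ∃ x ∈ S, Commute x u := by
  classical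
  haveI : Fintype S := Fintype.ofFinite S
  let σ : Function.End S := fun x => ⟨u * x.1 * u⁻¹, hS _ x.2⟩
  have hσ : ∀ x : S, σ (σ x) = x := fun x => Subtype.ext (by
    show u * (u * x.1 * u⁻¹) * u⁻¹ = x.1
    rw [inv_eq_of_mul_eq_one_right hu]
    simp [← mul_assoc, hu]
    simp [mul_assoc, hu])
  let e : Equiv.Perm S := ⟨σ, σ, hσ, hσ⟩
  haveI : Fact (Nat.Prime 2) := ⟨Nat.prime_two⟩
  obtain ⟨x, hx⟩ := Equiv.Perm.exists_fixed_point_of_prime (p := 2) (n := 1) (σ := e)
    (by rw [Fintype.card_eq_nat_card]; exact Nat.two_dvd_ne_zero.2 (Nat.odd_iff.1 hodd))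
    (Equiv.ext fun x => by simp [pow_two, e]; exact hσ x)
  refine ⟨x.1, x.2, ?_⟩
  have h1 : u * x.1 * u⁻¹ = x.1 := congrArg Subtype.val hx
  exact (mul_inv_eq_iff_eq_mul.1 h1).symm

theorem smul_conj_memAt [Finite G] {u : G} (hu : orderOf u = 2) {a : Ω} (ha : u • a = a) :
    ∃ d ∈ memAt G D a, Commute d u := by
  refine exists_commute_of_odd (invol_mul_self hu) (fun x hx => ?_) (h.odd a)
  have := h.conj_mem_memAt (g := u) hx
  rwa [ha] at this

/-- Two distinct points fixed by an involution are interchanged by a member centralising it. -/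
theorem exists_swap_commute [Finite G] {u : G} (hu : orderOf u = 2) {a b : Ω} (hab : a ≠ b)
    (hmap : (u • a = a ∧ u • b = b) ∨ u • a = b) : ∃ f ∈ memSwap G D a b, Commute f u := by
  refine exists_commute_of_odd (invol_mul_self hu) (fun x hx => ?_) ?_
  · refine ⟨h.conj u x hx.1, ?_⟩
    have hub : ∀ y : Ω, u • y = b → u⁻¹ • b = y := fun y hy => by rw [← hy, inv_smul_smul]
    rcases hmap with ⟨ha, hb⟩ | hab'
    · rw [mul_smul, mul_smul, inv_smul_eq_iff.2 ha.symm, hx.2, hb]
    · have hba : u • b = a := by rw [← hab', smul_smul, invol_mul_self hu, one_smul]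
      rw [mul_smul, mul_smul, inv_smul_eq_iff.2 hba.symm, h.memSwap_smul hx, hab']
  · rw [h.card_memSwap hab]
    exact h.odd b

theorem not_le_stab [Finite G] {u : G} (hu : Bad G Ω u) {a : Ω} (ha : u • a = a) :
    ¬ centralizer ({u} : Set G) ≤ stabilizer G a := by
  obtain ⟨x, y, hne, hx, hy⟩ := hu.two
  obtain ⟨b, hab, hb⟩ : ∃ b, a ≠ b ∧ u • b = b := by
    by_cases h' : a = x
    · exact ⟨y, h' ▸ hne, hy⟩
    · exact ⟨x, h', hx⟩
  obtain ⟨f, hf, hfu⟩ := h.exists_swap_commute hu.invol hab (Or.inl ⟨ha, hb⟩)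
  intro hle
  exact hab ((hle (mem_centralizer_singleton_iff.2 hfu.eq) : f • a = a).symm.trans hf.2)

/-- The members centralising a bad involution are conjugate in the group they generate. -/
theorem loc_transitive [Finite G] {u d e : G} (hu : Bad G Ω u) (hd : d ∈ D) (hdu : Commute d u)
    (he : e ∈ D) (heu : Commute e u) : ∃ g, Commute g u ∧ g * d * g⁻¹ = e := by
  obtain ⟨a, ha⟩ := (h.one d hd).exists
  obtain ⟨b, hb⟩ := (h.one e he).exists
  have hua : u • a = a := h.smul_eq_of_commute hd ha hdu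
  have step : ∀ x ∈ D, Commute x u → ∀ p : Ω, x • p = p → ∀ y ∈ D, Commute y u → ∀ q : Ω,
      y • q = q → p ≠ q → ∃ g, Commute g u ∧ g * x * g⁻¹ = y := by
    intro x hx hxu p hp y hy hyu q hq hpq
    obtain ⟨g, hg, hgy⟩ := exists_conj_of_odd (invol_mul_self (h.invol x hx))
      (invol_mul_self (h.invol y hy)) (h.odd_mul hx hp hy hq hpq)
    refine ⟨g, ?_, hgy⟩
    have hle : closure ({x, y} : Set G) ≤ centralizer ({u} : Set G) := by
      rw [closure_le]
      rintro z (rfl | rfl)
      · exact mem_centralizer_singleton_iff.2 hxu.eq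
      · exact mem_centralizer_singleton_iff.2 hyu.eq
    exact mem_centralizer_singleton_iff.1 (hle hg)
  by_cases hab : a = b
  · subst hab
    obtain ⟨g, hgc, hga⟩ := SetLike.not_le_iff_exists.1 (h.not_le_stab hu hua)
    have hgu : Commute g u := mem_centralizer_singleton_iff.1 hgc
    have hd' : Commute (g * d * g⁻¹) u := (hgu.mul_left hdu).mul_left hgu.inv_left
    have hne : a ≠ g • a := fun h' => hga h'.symm
    obtain ⟨g1, hg1, hg1'⟩ := step d hd hdu a ha _ (h.conj g d hd) hd' _
      (h.conj_mem_memAt ⟨hd, ha⟩).2 hne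
    obtain ⟨g2, hg2, hg2'⟩ := step _ (h.conj g d hd) hd' _ (h.conj_mem_memAt ⟨hd, ha⟩).2
      e he heu a hb hne.symm
    exact ⟨g2 * g1, hg2.mul_left hg1, by rw [← hg2', ← hg1']; group⟩
  · exact step d hd hdu a ha e he heu b hb hab

theorem bad_mul_swap [Finite G] {u f : G} (hu : orderOf u = 2) (hf : f ∈ D) (hfu : Commute f u)
    {c : Ω} (hc : u • c ≠ c) (hfc : f • c = u • c) (hne : u ≠ f) : Bad G Ω (u * f) := by
  obtain ⟨p, hp⟩ := (h.one f hf).exists
  have hfix : (u * f) • c = c := by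
    rw [mul_smul, hfc, smul_smul, invol_mul_self hu, one_smul]
  refine ⟨(invol_iff.2 ⟨?_, ?_⟩), p, c, ?_, ?_, hfix⟩
  · calc u * f * (u * f) = u * (f * u) * f := by group
      _ = u * (u * f) * f := by rw [hfu.eq]
      _ = (u * u) * (f * f) := by group
      _ = 1 := by rw [invol_mul_self hu, invol_mul_self (h.invol f hf), one_mul]
  · intro h1
    exact hne (by rw [eq_inv_of_mul_eq_one_left h1, invol_inv (h.invol f hf)])
  · intro hpc
    subst hpc
    exact hc (hfc ▸ hp)
  · rw [mul_smul, hp, h.smul_eq_of_commute hf hp hfu]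

omit h in
theorem exists_moved [Finite G] {u : G} (hu : u ≠ 1) (hf : FaithfulSMul G Ω) : ∃ c : Ω, u • c ≠ c := by
  by_contra hall
  push Not at hall
  exact hu (hf.eq_of_smul_eq_smul fun c => by rw [hall c, one_smul])

/-- The key lemma: a bad involution times a member centralising it is bad. -/
theorem bad_mul [Finite G] [hfa : FaithfulSMul G Ω] {u d : G} (hu : Bad G Ω u) (hd : d ∈ D)
    (hdu : Commute d u) : Bad G Ω (u * d) := by
  obtain ⟨c, hc⟩ := exists_moved (invol_ne_one hu.invol) hfa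
  obtain ⟨f, hf, hfu⟩ := h.exists_swap_commute hu.invol (Ne.symm hc) (Or.inr rfl)
  obtain ⟨hw, p, q, hne, hp, hq⟩ := h.bad_mul_swap hu.invol hf.1 hfu hc hf.2 (fun e => h.not_bad_of_mem hf.1 (e ▸ hu))
  obtain ⟨g, hgu, hgd⟩ := h.loc_transitive hu hf.1 hfu hd hdu
  have hconj : g * (u * f) * g⁻¹ = u * d := by
    rw [← hgd, ← mul_assoc g u f, hgu.eq]; group
  refine ⟨hconj ▸ (orderOf_conj_eq g _).trans hw, g • p, g • q, fun h' => hne (by simpa using h'),
    ?_, ?_⟩ <;> simp [← hconj, mul_smul, hp, hq]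

/-- Every involution with a fixed point is a member or bad. -/
theorem mem_or_bad [Finite G] [hfa : FaithfulSMul G Ω] {u : G} (hu : orderOf u = 2) {a : Ω}
    (_ha : u • a = a) : u ∈ D ∨ Bad G Ω u := by
  by_cases hD : u ∈ D
  · exact Or.inl hD
  · refine Or.inr ?_
    obtain ⟨c, hc⟩ := exists_moved (invol_ne_one hu) hfa
    obtain ⟨f, hf, hfu⟩ := h.exists_swap_commute hu (Ne.symm hc) (Or.inr rfl)
    have hw := h.bad_mul_swap hu hf.1 hfu hc hf.2 (fun e => hD (e ▸ hf.1))
    have hcomm : Commute f (u * f) := hfu.mul_right (Commute.refl f)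
    have := h.bad_mul hw hf.1 hcomm
    rwa [mul_assoc, invol_mul_self (h.invol f hf.1), mul_one] at this

/-- A product of two commuting members is a member, unless it is bad. -/
theorem mul_mem_D_of_not_bad [Finite G] [FaithfulSMul G Ω] {d e : G} (hd : d ∈ D) (he : e ∈ D) (hne : d ≠ e)
    (hc : Commute d e) (hnb : ¬ Bad G Ω (d * e)) : d * e ∈ D := by
  obtain ⟨a, ha⟩ := (h.one d hd).exists
  have hea : e • a = a := h.smul_eq_of_commute hd ha hc
  have h2 : orderOf (d * e) = 2 := by
    refine invol_iff.2 ⟨?_, fun h1 => hne ?_⟩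
    · calc d * e * (d * e) = d * (e * d) * e := by group
        _ = d * (d * e) * e := by rw [hc.eq]
        _ = (d * d) * (e * e) := by group
        _ = 1 := by rw [invol_mul_self (h.invol d hd), invol_mul_self (h.invol e he), one_mul]
    · rw [eq_inv_of_mul_eq_one_left h1, invol_inv (h.invol e he)]
  exact (h.mem_or_bad h2 (a := a) (by rw [mul_smul, hea, ha])).resolve_right hnb

end Pre

namespace Action

variable {G Ω : Type*} [Group G] [MulAction G Ω] {D : Set G} (h : Action G Ω D)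
include h

/-- A bad involution has a strongly embedded point stabiliser in the group it localises. -/
theorem emb_bad [Finite G] {u : G} (hu : Bad G Ω u) {a : Ω} (ha : u • a = a) :
    Cfsg.IsStronglyEmbedded ((stabilizer G a).subgroupOf (loc D u)) := by
  obtain ⟨d, hd, hdu⟩ := h.smul_conj_memAt hu.invol ha
  exact h.emb u hu.invol d hd.1 hdu a hd.2 (h.not_le_stab hu ha)

theorem bad_not_mem_loc [Finite G] {u : G} (hu : Bad G Ω u) : u ∉ loc D u := by
  obtain ⟨x, -, -, hx, -⟩ := hu.two
  exact not_mem_loc_of_emb hu.invol hx (h.emb_bad hu hx)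

/-- A product of two commuting members is a member. -/
theorem mul_mem_D [Finite G] [FaithfulSMul G Ω] {d e : G} (hd : d ∈ D) (he : e ∈ D) (hne : d ≠ e)
    (hc : Commute d e) : d * e ∈ D :=
  h.mul_mem_D_of_not_bad hd he hne hc fun hb => h.bad_not_mem_loc hb
    (mul_mem (subset_closure ⟨hd, (Commute.refl d).mul_right hc⟩)
      (subset_closure ⟨he, hc.symm.mul_right (Commute.refl e)⟩))

end Action

end Cfsg.Agent.Lib.Crit8
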